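import Groth.Agent.H18Patch.Scale
import Mathlib.RingTheory.Localization.Algebra
import Mathlib.CategoryTheory.Monoidal.Cartesian.Grp

/-!
# Quillen's patching lemma for points over polynomial rings
-/

set_option autoImplicit false
set_option backward.isDefEq.respectTransparency false

universe u

open CategoryTheory AlgebraicGeometry Limits Polynomial Groth.Agent.H7Flat
open scoped MonObj

namespace Groth.Agent.H18Patch

variable {R : Type u} [CommRing R]

/-- The affine scheme of an algebra over the base. -/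
noncomputable abbrev pt (R : Type u) [CommRing R] (S : Type u) [CommRing S] [Algebra R S] :
    Over (Spec (CommRingCat.of R)) :=
  Over.mk (sm (algebraMap R S))

variable {S T U : Type u} [CommRing S] [CommRing T] [CommRing U] [Algebra R S] [Algebra R T] [Algebra R U]

/-- The morphism of a map of algebras. -/
noncomputable def mor (φ : S →ₐ[R] T) : pt R T ⟶ pt R S :=
  Over.homMk (sm φ.toRingHom) (by
    show sm φ.toRingHom ≫ sm (algebraMap R S) = sm (algebraMap R T)
    rw [← sm_comp]; congr 1; exact φ.comp_algebraMap)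

theorem mor_left (φ : S →ₐ[R] T) : (mor φ).left = sm φ.toRingHom := rfl

@[reassoc]
theorem mor_mor (φ : T →ₐ[R] U) (ψ : S →ₐ[R] T) : mor φ ≫ mor ψ = mor (φ.comp ψ) := by
  ext1
  show sm φ.toRingHom ≫ sm ψ.toRingHom = sm ((φ.comp ψ).toRingHom)
  rw [← sm_comp]
  rfl

theorem mor_id : mor (AlgHom.id R S) = 𝟙 (pt R S) := by
  ext1
  show sm (RingHom.id S) = 𝟙 _
  exact Spec.map_id _

/-- Evaluation. -/
noncomputable def ev (R : Type u) [CommRing R] [Algebra R S] (c : S) : S[X] →ₐ[R] S :=
  { Polynomial.evalRingHom c with commutes' := fun x => by simp [Polynomial.algebraMap_apply] }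

@[simp] theorem ev_apply (c : S) (f : S[X]) : ev R c f = f.eval c := rfl

/-- Constants. -/
noncomputable def CA (R S : Type u) [CommRing R] [CommRing S] [Algebra R S] : S →ₐ[R] S[X] :=
  { (Polynomial.C : S →+* S[X]) with commutes' := fun x => by simp [Polynomial.algebraMap_apply] }

@[simp] theorem CA_apply (x : S) : CA R S x = Polynomial.C x := rfl

/-- Scaling of the variable. -/
noncomputable def scaleA (R : Type u) [CommRing R] [Algebra R S] (c : S) : S[X] →ₐ[R] S[X] :=
  { scale c with commutes' := fun x => by simp [Polynomial.algebraMap_apply] }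

@[simp] theorem scaleA_X (c : S) : scaleA R c Polynomial.X = Polynomial.C c * Polynomial.X := by
  show scale c Polynomial.X = _
  simp [scale]

@[simp] theorem scaleA_C (c x : S) : scaleA R c (Polynomial.C x) = Polynomial.C x := scale_C c x

theorem algHom_ext' {f g : S[X] →ₐ[R] T} (hC : ∀ x, f (Polynomial.C x) = g (Polynomial.C x))
    (hX : f Polynomial.X = g Polynomial.X) : f = g :=
  AlgHom.coe_ringHom_injective (Polynomial.ringHom_ext hC hX)

variable {G : Over (Spec (CommRingCat.of R))} [GrpObj G]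

theorem mor_one (φ : S →ₐ[R] T) : mor φ ≫ (1 : pt R S ⟶ G) = 1 := MonObj.comp_one _

/-- Lifting after scaling, for points of a group. -/
theorem exists_scaled_lift_over [LocallyOfFinitePresentation G.hom] {P Q : Type u} [CommRing P] [CommRing Q]
    [Algebra R P] [Algebra R Q] [Algebra P Q] [IsScalarTower R P Q] (r : P) [IsLocalization.Away r Q]
    (h : pt R Q[X] ⟶ G) (h0 : mor (ev R (0 : Q)) ≫ h = 1) :
    ∃ (N : ℕ) (l : pt R P[X] ⟶ G),
      mor (Polynomial.mapAlgHom (IsScalarTower.toAlgHom R P Q)) ≫ l = mor (scaleA R (algebraMap P Q r ^ N)) ≫ h := by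
  obtain ⟨N, l, hl, hl', -⟩ := exists_scaled_lift r G.hom h.left (Over.w h) (1 : pt R P ⟶ G).left (Over.w _) (by
    have h1 := congrArg (fun f : pt R Q ⟶ G => f.left) (h0.trans (mor_one (IsScalarTower.toAlgHom R P Q)).symm)
    exact h1)
  refine ⟨N, Over.homMk l hl, ?_⟩
  ext1
  exact hl'

section Patch

variable [LocallyOfFinitePresentation G.hom] {A B : Type u} [CommRing A] [CommRing B] [Algebra R A] [Algebra R B]
  [Algebra A B] [IsScalarTower R A B]

attribute [local instance] Polynomial.algebra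

theorem isLocalization_C (r : A) [IsLocalization.Away r B] : IsLocalization.Away (Polynomial.C r : A[X]) B[X] := by
  have := Polynomial.isLocalization (Submonoid.powers r) B
  rwa [Submonoid.map_powers] at this

/-- The quotient of two rescalings of a point trivial at zero comes from `A`. -/
theorem exists_rescale_quotient (r : A) [IsLocalization.Away r B] (g : pt R B[X] ⟶ G)
    (g0 : mor (ev R (0 : B)) ≫ g = 1) :
    ∃ N : ℕ, ∀ a b : A, ∃ g₁ : pt R A[X] ⟶ G, mor (ev R (0 : A)) ≫ g₁ = 1 ∧
      mor (Polynomial.mapAlgHom (IsScalarTower.toAlgHom R A B)) ≫ g₁ =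
        (mor (scaleA R (algebraMap A B (a + r ^ N * b))) ≫ g) * (mor (scaleA R (algebraMap A B a)) ≫ g)⁻¹ := by
  haveI := isLocalization_C (B := B) r
  haveI : IsScalarTower R A[X] B[X] := IsScalarTower.of_algebraMap_eq fun x => by
    simp [Polynomial.algebraMap_def, Polynomial.algebraMap_apply, ← IsScalarTower.algebraMap_apply]
  haveI := isLocalization_C (A := A[X]) (B := B[X]) (Polynomial.C r)
  haveI : IsScalarTower R A[X][X] B[X][X] := IsScalarTower.of_algebraMap_eq fun x => by
    simp [Polynomial.algebraMap_def, Polynomial.algebraMap_apply, ← IsScalarTower.algebraMap_apply]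
  -- the universal quotient: `T = C (C X)`, `Y = C X`, `Z = X`
  let vT : B[X][X][X] := Polynomial.C (Polynomial.C Polynomial.X)
  let e₁ : B[X] →ₐ[R] B[X][X][X] :=
    (Polynomial.aeval ((Polynomial.C Polynomial.X + Polynomial.X) * vT) : B[X] →ₐ[B] B[X][X][X]).restrictScalars R
  let e₂ : B[X] →ₐ[R] B[X][X][X] :=
    (Polynomial.aeval (Polynomial.C Polynomial.X * vT) : B[X] →ₐ[B] B[X][X][X]).restrictScalars R
  have h0 : mor (ev R (0 : B[X][X])) ≫ ((mor e₁ ≫ g) * (mor e₂ ≫ g)⁻¹) = 1 := by
    rw [MonObj.comp_mul, GrpObj.comp_inv, ← Category.assoc, ← Category.assoc, mor_mor, mor_mor,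
      show (ev R (0 : B[X][X])).comp e₁ = (ev R (0 : B[X][X])).comp e₂ from
        algHom_ext' (fun x => by simp [e₁, e₂, Polynomial.algebraMap_apply]) (by simp [e₁, e₂]), mul_inv_cancel]
  obtain ⟨N, l, hl⟩ := exists_scaled_lift_over (P := A[X][X]) (Q := B[X][X]) (Polynomial.C (Polynomial.C r)) _ h0
  refine ⟨N, fun a b => ?_⟩
  let Ψ : A[X][X][X] →ₐ[R] A[X] :=
    (ev R (Polynomial.C a)).comp (ev R (Polynomial.C (Polynomial.C b)))
  let Φ : B[X][X][X] →ₐ[R] B[X] :=
    (ev R (Polynomial.C (algebraMap A B a))).comp (ev R (Polynomial.C (Polynomial.C (algebraMap A B b))))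
  let m₀ : A[X] →ₐ[R] B[X] := Polynomial.mapAlgHom (IsScalarTower.toAlgHom R A B)
  have hm₀Ψ : m₀.comp Ψ = Φ.comp (Polynomial.mapAlgHom (IsScalarTower.toAlgHom R A[X][X] B[X][X])) := by
    refine algHom_ext' (fun x => ?_) (by simp [m₀, Ψ, Φ, Polynomial.mapAlgHom])
    refine AlgHom.congr_fun (φ₁ := (m₀.comp Ψ).comp (CA R _))
      (φ₂ := (Φ.comp (Polynomial.mapAlgHom (IsScalarTower.toAlgHom R A[X][X] B[X][X]))).comp (CA R _))
      (algHom_ext' (fun x => ?_) (by simp [m₀, Ψ, Φ, Polynomial.mapAlgHom, Polynomial.algebraMap_def])) x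
    simp [m₀, Ψ, Φ, Polynomial.mapAlgHom, Polynomial.algebraMap_def]
  have he₁ : (Φ.comp (scaleA R (algebraMap A[X][X] B[X][X] (Polynomial.C (Polynomial.C r)) ^ N))).comp e₁ =
      scaleA R (algebraMap A B (a + r ^ N * b)) :=
    algHom_ext' (fun x => by simp [Φ, e₁, Polynomial.algebraMap_apply])
      (by simp [Φ, e₁, vT, Polynomial.algebraMap_def]; try ring)
  have he₂ : (Φ.comp (scaleA R (algebraMap A[X][X] B[X][X] (Polynomial.C (Polynomial.C r)) ^ N))).comp e₂ =
      scaleA R (algebraMap A B a) :=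
    algHom_ext' (fun x => by simp [Φ, e₂, Polynomial.algebraMap_apply])
      (by simp [Φ, e₂, vT, Polynomial.algebraMap_def]; try ring)
  obtain ⟨g', hg'_def⟩ : ∃ g' : pt R A[X] ⟶ G, g' = mor Ψ ≫ l := ⟨_, rfl⟩
  have hg' : mor m₀ ≫ g' = (mor (scaleA R (algebraMap A B (a + r ^ N * b))) ≫ g) *
      (mor (scaleA R (algebraMap A B a)) ≫ g)⁻¹ := by
    rw [hg'_def, mor_mor_assoc, hm₀Ψ, ← mor_mor_assoc (S := A[X][X][X]) (T := B[X][X][X]) (U := B[X]) Φ, hl, mor_mor_assoc, MonObj.comp_mul, GrpObj.comp_inv,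
      mor_mor_assoc, mor_mor_assoc, he₁, he₂]
  -- normalise at zero
  refine ⟨g' * (mor (CA R A) ≫ mor (ev R (0 : A)) ≫ g')⁻¹, ?_, ?_⟩
  · rw [MonObj.comp_mul, GrpObj.comp_inv, mor_mor_assoc,
      show (ev R (0 : A)).comp (CA R A) = AlgHom.id R A from AlgHom.ext fun x => by simp,
      mor_id, Category.id_comp, mul_inv_cancel]
  · have hev : ∀ c : B, (ev R (0 : B)).comp (scaleA R c) = ev R (0 : B) := fun c =>
      algHom_ext' (fun x => by simp) (by simp)
    have h1 : mor m₀ ≫ mor (CA R A) ≫ mor (ev R (0 : A)) ≫ g' = 1 := by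
      rw [mor_mor_assoc, mor_mor_assoc,
        show (m₀.comp (CA R A)).comp (ev R (0 : A)) = ((CA R B).comp (ev R (0 : B))).comp m₀ from
          algHom_ext' (fun x => by simp [m₀, Polynomial.mapAlgHom]) (by simp [m₀, Polynomial.mapAlgHom]),
        ← mor_mor_assoc, hg', ← mor_mor_assoc, MonObj.comp_mul, GrpObj.comp_inv, mor_mor_assoc, mor_mor_assoc,
        hev, hev, mul_inv_cancel, mor_one]
    rw [MonObj.comp_mul, GrpObj.comp_inv, h1, hg', inv_one, _root_.mul_one]

/-- A localisation of a localisation. -/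
theorem isLocalization_away_right {A B : Type u} [CommRing A] [CommRing B] [Algebra R A] [Algebra R B]
    [Algebra A B] [IsScalarTower R A B] (x y : R) [IsLocalization.Away x A] [IsLocalization.Away (x * y) B] :
    IsLocalization.Away (algebraMap R A y) B := by
  let e : Localization.Away (algebraMap R A y) ≃ₐ[R] B := IsLocalization.algEquiv (Submonoid.powers (x * y)) _ _
  have he : e.toAlgHom.toRingHom.comp (algebraMap A (Localization.Away (algebraMap R A y))) = algebraMap A B :=
    IsLocalization.ringHom_ext (Submonoid.powers x) (RingHom.ext fun z => by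
      simp [← IsScalarTower.algebraMap_apply])
  exact IsLocalization.isLocalization_of_algEquiv (Submonoid.powers (algebraMap R A y))
    (AlgEquiv.ofRingEquiv (f := e.toRingEquiv) fun z => congr($he z))

end Patch

end Groth.Agent.H18Patch
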