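import Groth.Agent.H7Flat.PushoutAffine
import Mathlib.AlgebraicGeometry.AffineTransitionLimit
import Mathlib.RingTheory.Localization.Integral
import Mathlib.Algebra.Category.Ring.FilteredColimits
import Mathlib.CategoryTheory.Limits.Types.Filtered

/-!
# Points of a locally finitely presented scheme and scaling of a variable

If `Q = P[1/r]`, a point over `Q[X]` which at `X = 0` comes from `P` comes from `P[X]` after
replacing `X` by `r ^ N X`.
-/

set_option autoImplicit false
set_option backward.isDefEq.respectTransparency false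

universe u

open CategoryTheory AlgebraicGeometry Limits Polynomial Groth.Agent.H7Flat

namespace Groth.Agent.H18Patch

variable {S : Type u} [CommRing S]

/-- `X ↦ c X`. -/
noncomputable def scale (c : S) : S[X] →+* S[X] := Polynomial.compRingHom (Polynomial.C c * Polynomial.X)

theorem coeff_scale (c : S) (f : S[X]) (n : ℕ) : (scale c f).coeff n = f.coeff n * c ^ n :=
  Polynomial.comp_C_mul_X_coeff

@[simp]
theorem scale_C (c x : S) : scale c (Polynomial.C x) = Polynomial.C x := by
  simp [scale]

theorem scale_scale (a b : S) (f : S[X]) : scale a (scale b f) = scale (a * b) f := by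
  ext n; rw [coeff_scale, coeff_scale, coeff_scale, mul_pow]; ring

theorem scale_one (f : S[X]) : scale 1 f = f := by
  ext n; rw [coeff_scale, one_pow, _root_.mul_one]

theorem eval_zero_scale (c : S) (f : S[X]) : (scale c f).eval 0 = f.eval 0 := by
  rw [← coeff_zero_eq_eval_zero, ← coeff_zero_eq_eval_zero, coeff_scale, pow_zero, _root_.mul_one]

variable {P Q : Type u} [CommRing P] [CommRing Q] [Algebra P Q] (r : P) [IsLocalization.Away r Q]

theorem map_scale (c : P) (f : P[X]) :
    (scale c f).map (algebraMap P Q) = scale (algebraMap P Q c) (f.map (algebraMap P Q)) := by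
  ext n; rw [Polynomial.coeff_map, coeff_scale, coeff_scale, Polynomial.coeff_map, map_mul, map_pow]

variable (P Q) in
/-- The fibre product `Q[X] ×_Q P`. -/
noncomputable def fib : Subring (Q[X] × P) :=
  RingHom.eqLocus ((Polynomial.evalRingHom (0 : Q)).comp (RingHom.fst Q[X] P))
    ((algebraMap P Q).comp (RingHom.snd Q[X] P))

variable (P Q) in
noncomputable abbrev fibFst : fib P Q →+* Q[X] := (RingHom.fst Q[X] P).comp (fib P Q).subtype

variable (P Q) in
noncomputable abbrev fibSnd : fib P Q →+* P := (RingHom.snd Q[X] P).comp (fib P Q).subtype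

variable (P Q) in
theorem ringSq : RingSq (fibFst P Q) (fibSnd P Q) (Polynomial.evalRingHom (0 : Q)) (algebraMap P Q) where
  comm z := z.2
  surj x := ⟨Polynomial.C x, by simp⟩
  ext _ _ h h' := Subtype.ext (Prod.ext h h')
  exists_lift x y h := ⟨⟨(x, y), h⟩, rfl, rfl⟩

/-- The inverse of the image of `r`. -/
noncomputable abbrev inv' : Q := IsLocalization.Away.invSelf (S := Q) r

theorem inv'_mul (n : ℕ) : (inv' (Q := Q) r) ^ n * algebraMap P Q r ^ n = 1 := by
  rw [← mul_pow, _root_.mul_comm, IsLocalization.Away.mul_invSelf, one_pow]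

/-- The `n`-th map of the colimit presentation of `fib`. -/
noncomputable def stage (n : ℕ) : P[X] →+* fib P Q :=
  RingHom.codRestrict
    (RingHom.prod ((scale ((inv' (Q := Q) r) ^ n)).comp (Polynomial.mapRingHom (algebraMap P Q)))
      (Polynomial.evalRingHom 0)) (fib P Q) fun f => by
    show (scale _ (f.map _)).eval 0 = algebraMap P Q (f.eval 0)
    rw [eval_zero_scale, ← coeff_zero_eq_eval_zero, ← coeff_zero_eq_eval_zero, Polynomial.coeff_map]

theorem fibFst_stage (n : ℕ) :
    (fibFst P Q).comp (stage r n) =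
      (scale ((inv' (Q := Q) r) ^ n)).comp (Polynomial.mapRingHom (algebraMap P Q)) := rfl

theorem fibSnd_stage (n : ℕ) : (fibSnd P Q).comp (stage (Q := Q) r n) = Polynomial.evalRingHom 0 := rfl

theorem stage_scale {m n : ℕ} (h : m ≤ n) (f : P[X]) :
    stage (Q := Q) r n (scale (r ^ (n - m)) f) = stage r m f := by
  refine Subtype.ext (Prod.ext ?_ (eval_zero_scale _ _))
  show scale _ ((scale _ f).map _) = scale _ (f.map _)
  rw [map_scale, scale_scale, map_pow]
  congr 2
  conv_lhs => rw [show n = m + (n - m) by omega]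
  rw [pow_add, _root_.mul_assoc, Nat.add_sub_cancel_left, inv'_mul, _root_.mul_one]

theorem exists_stage_eq (z : fib P Q) : ∃ n f, stage r n f = z := by
  classical
  obtain ⟨b, hb⟩ := IsLocalization.integerNormalization_map_to_map (Submonoid.powers r) z.1.1
  obtain ⟨_, n, rfl⟩ := b
  set f₁ := IsLocalization.integerNormalization (Submonoid.powers r) z.1.1
  refine ⟨n, Polynomial.C z.1.2 + Polynomial.X * scale (r ^ n) f₁.divX, Subtype.ext (Prod.ext ?_ ?_)⟩
  · show scale _ (Polynomial.map _ _) = z.1.1
    ext k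
    rw [coeff_scale, Polynomial.coeff_map, Polynomial.coeff_add]
    rcases k with _ | k
    · have h0 : z.1.1.eval 0 = algebraMap P Q z.1.2 := z.2
      simp [← h0, coeff_zero_eq_eval_zero]
    · rw [Polynomial.coeff_C_succ, zero_add, Polynomial.coeff_X_mul, coeff_scale, Polynomial.coeff_divX,
        map_mul, ← Polynomial.coeff_map, hb]
      rw [Polynomial.coeff_smul]
      simp only [Algebra.smul_def, map_pow, ← pow_mul]
      have := inv'_mul (Q := Q) r (n * (k + 1))
      linear_combination (z.1.1.coeff (k + 1)) * this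
  · show Polynomial.eval 0 _ = z.1.2
    simp

theorem exists_of_stage_eq {n : ℕ} {x y : P[X]} (h : stage (Q := Q) r n x = stage r n y) :
    ∃ k, scale (r ^ k) x = scale (r ^ k) y := by
  classical
  have h0 : x.coeff 0 = y.coeff 0 := by
    rw [coeff_zero_eq_eval_zero, coeff_zero_eq_eval_zero]
    exact congrArg (fun z : fib P Q => z.1.2) h
  have hc : ∀ i, algebraMap P Q (x.coeff i) = algebraMap P Q (y.coeff i) := by
    intro i
    have h1 : scale ((inv' (Q := Q) r) ^ n) (x.map (algebraMap P Q)) =
        scale ((inv' (Q := Q) r) ^ n) (y.map (algebraMap P Q)) := congrArg (fun z : fib P Q => z.1.1) h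
    have h2 := congrArg (fun f => (scale (algebraMap P Q r ^ n) f).coeff i) h1
    simpa only [scale_scale, _root_.mul_comm (algebraMap P Q r ^ n), inv'_mul, scale_one,
      Polynomial.coeff_map] using h2
  choose m hm using fun i => IsLocalization.Away.exists_of_eq r (hc i)
  refine ⟨∑ i ∈ x.support ∪ y.support, m i, ?_⟩
  ext i
  rw [coeff_scale, coeff_scale]
  rcases i with _ | i
  · rw [h0]
  by_cases hi : i + 1 ∈ x.support ∪ y.support
  · obtain ⟨d, hd⟩ := Nat.exists_eq_add_of_le
      ((Finset.single_le_sum (fun j _ => Nat.zero_le (m j)) hi).trans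
        (Nat.le_mul_of_pos_right _ (Nat.succ_pos i)))
    rw [← pow_mul, hd, pow_add, ← _root_.mul_assoc, ← _root_.mul_assoc,
      _root_.mul_comm (x.coeff _), _root_.mul_comm (y.coeff _), hm]
  · rw [Finset.mem_union, not_or, Polynomial.notMem_support_iff, Polynomial.notMem_support_iff] at hi
    rw [hi.1, hi.2]

/-- The diagram `P[X] → P[X] → ...` with transition maps `X ↦ r X`. -/
noncomputable def scaleFunctor : ULift.{u} ℕ ⥤ CommRingCat.{u} where
  obj _ := CommRingCat.of P[X]
  map {i j} _ := CommRingCat.ofHom (scale (r ^ (j.down - i.down)))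
  map_id i := by
    ext1; exact RingHom.ext fun f => by simp [scale_one]
  map_comp {i j k} a b := by
    ext1; refine RingHom.ext fun f => ?_
    show scale _ f = scale _ (scale _ f)
    rw [scale_scale, ← pow_add]
    congr 3
    have h1 : i.down ≤ j.down := ULift.down_le.2 (leOfHom a)
    have h2 : j.down ≤ k.down := ULift.down_le.2 (leOfHom b)
    omega

/-- `fib` as a cocone of the diagram. -/
noncomputable def scaleCocone : Cocone (scaleFunctor r) where
  pt := CommRingCat.of (fib P Q)
  ι.app i := CommRingCat.ofHom (stage r i.down)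
  ι.naturality i j a := by
    ext1; exact RingHom.ext fun f => stage_scale r (ULift.down_le.2 (leOfHom a : i ≤ j)) f

/-- `fib` is the colimit. -/
noncomputable def scaleCoconeIsColimit : IsColimit (scaleCocone (Q := Q) r) := by
  haveI : ReflectsColimit (scaleFunctor r) (CategoryTheory.forget CommRingCat.{u}) :=
    reflectsColimit_of_reflectsIsomorphisms _ _
  refine isColimitOfReflects (CategoryTheory.forget CommRingCat.{u}) ?_
  refine Types.FilteredColimit.isColimitOf' _ _ (fun z => ?_) (fun i x y h => ?_)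
  · obtain ⟨n, f, hf⟩ := exists_stage_eq (Q := Q) r (z : fib P Q)
    exact ⟨⟨n⟩, f, hf.symm⟩
  · obtain ⟨k, hk⟩ := exists_of_stage_eq (Q := Q) r (n := i.down) (x := x) (y := y) h
    refine ⟨⟨i.down + k⟩, homOfLE (show i.down ≤ i.down + k by omega), ?_⟩
    show scale (r ^ (i.down + k - i.down)) _ = scale (r ^ (i.down + k - i.down)) _
    rw [Nat.add_sub_cancel_left]
    exact hk

variable {R : Type u} [CommRing R] [Algebra R P] [Algebra R Q] [IsScalarTower R P Q]

/-- A point over `Q[X]` which at `X = 0` comes from `P` comes from `P[X]` after scaling. -/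
theorem exists_scaled_lift {G : Scheme.{u}} (gG : G ⟶ Spec (CommRingCat.of R)) [LocallyOfFinitePresentation gG]
    (h : Spec (CommRingCat.of Q[X]) ⟶ G) (hh : h ≫ gG = sm (algebraMap R Q[X]))
    (e : Spec (CommRingCat.of P) ⟶ G) (he : e ≫ gG = sm (algebraMap R P))
    (hc : sm (Polynomial.evalRingHom (0 : Q)) ≫ h = sm (algebraMap P Q) ≫ e) :
    ∃ (N : ℕ) (l : Spec (CommRingCat.of P[X]) ⟶ G), l ≫ gG = sm (algebraMap R P[X]) ∧
      sm (Polynomial.mapRingHom (algebraMap P Q)) ≫ l = sm (scale (algebraMap P Q r ^ N)) ≫ h ∧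
      sm (Polynomial.evalRingHom (0 : P)) ≫ l = e := by
  obtain ⟨a, ha, hb⟩ := (ringSq P Q).exists_desc h e hc
  let D : (ULift.{u} ℕ)ᵒᵖ ⥤ Scheme.{u} := (scaleFunctor r).op ⋙ Scheme.Spec
  let cS : Cone D := Scheme.Spec.mapCone (scaleCocone (Q := Q) r).op
  have hcS : IsLimit cS := isLimitOfPreserves Scheme.Spec (scaleCoconeIsColimit (Q := Q) r).op
  let t : D ⟶ (Functor.const _).obj (Spec (CommRingCat.of R)) :=
    { app := fun _ => sm (algebraMap R P[X])
      naturality := fun i j f => by
        show Spec.map _ ≫ sm _ = sm _ ≫ 𝟙 _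
        rw [Category.comp_id]
        show sm (scale _) ≫ sm _ = sm _
        rw [← sm_comp]
        congr 1
        exact RingHom.ext fun x => by simp [Polynomial.algebraMap_apply] }
  haveI : ∀ i, CompactSpace (D.obj i) := fun i =>
    inferInstanceAs (CompactSpace (Spec (CommRingCat.of P[X])))
  haveI : ∀ i, QuasiSeparatedSpace (D.obj i) := fun i =>
    inferInstanceAs (QuasiSeparatedSpace (Spec (CommRingCat.of P[X])))
  haveI : ∀ {i j} (f : i ⟶ j), IsAffineHom (D.map f) := fun f =>
    inferInstanceAs (IsAffineHom (Spec.map _))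
  obtain ⟨i, l, hl, hl'⟩ := Scheme.exists_π_app_comp_eq_of_locallyOfFinitePresentation D t gG cS hcS a (by
    ext i : 2
    show sm (stage (Q := Q) r i.unop.down) ≫ sm (algebraMap R P[X]) = a ≫ gG
    refine (ringSq P Q).hom_ext ?_ ?_
    · rw [reassoc_of% ha, hh, ← sm_comp, ← sm_comp, ← RingHom.comp_assoc]
      congr 1
      rw [fibFst_stage]
      exact RingHom.ext fun x => by
        simp [Polynomial.algebraMap_apply, ← IsScalarTower.algebraMap_apply]
    · rw [reassoc_of% hb, he, ← sm_comp, ← sm_comp, ← RingHom.comp_assoc, fibSnd_stage]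
      congr 1
      exact RingHom.ext fun x => by simp [Polynomial.algebraMap_apply])
  replace hl : sm (stage (Q := Q) r i.unop.down) ≫ l = a := hl
  refine ⟨i.unop.down, l, hl', ?_, ?_⟩
  · rw [← ha, ← hl]
    show _ = sm _ ≫ sm _ ≫ sm _ ≫ l
    rw [← reassoc_of% sm_comp (stage (Q := Q) r i.unop.down) (fibFst P Q),
      ← reassoc_of% sm_comp ((fibFst P Q).comp (stage (Q := Q) r i.unop.down)), fibFst_stage]
    congr 2
    refine RingHom.ext fun x => ?_
    show _ = scale _ (scale _ _)
    rw [scale_scale, _root_.mul_comm, inv'_mul, scale_one]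
  · rw [← hb, ← hl, ← reassoc_of% sm_comp (stage (Q := Q) r i.unop.down) (fibSnd P Q), fibSnd_stage]

end Groth.Agent.H18Patch
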